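import Cfsg.Agent.Omega.NOThreeL.RRed.WLF.Src
import Cfsg.Agent.Omega.NOThreeL.RRed.ClassInst

/-!
# NO-3L, box R, row 8 of `WideTree`: the root group of one block, semilinear maps (helper916)

`n : NatS F S P V W l` (`V = F²`, `l = F × 0`).

* `Rt n A` : `A` acts on `V` as the full root group; `Rt.cent` : `C_V(A) = l`;
* `Rt.mul` : an element which normalises `V` and maps one full root group to another one acts semilinearly on `l`;
* **`Rt.gal`** : a group of such elements which fixes a vector of `l#` acts on `l` as a commutative group;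
* `rt_of` : a minimal exact offender of `V*` in `S` which moves `W i` acts on it as the full root group.
-/

set_option autoImplicit false
set_option linter.unusedSectionVars false

namespace Cfsg.Agent.Omega.NOThreeL.RRed.WLF

open Subgroup Cfsg Cfsg.Agent.ZN Cfsg.Agent.Omega.MinPar Cfsg.Agent.Omega.Frame Cfsg.Agent.Omega.FrameNOFF
open Cfsg.Agent.Omega.FrameFF
open Cfsg.Agent.Omega.NOThreeL.Merge (MZ)
open Cfsg.Agent.Omega.NOThreeL.RTree (RB)
open Cfsg.Agent.Omega.FFThm (NatKM NatK ActsSL OffM ElemM NoOverM ConclM)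
open Cfsg.Agent.Omega.NO3S.ThmB (Nb sg)
open Cfsg.Agent.Omega.NatPair (ap ap_add ap_mul ap_one ext2 ap_zero' ap_one')
open Cfsg.Agent.Lib.SL2Mat
open Cfsg.Agent.Omega.NOThreeL.RRed.InstZ (ZZ Spl)
open Cfsg.Agent.Omega.NOThreeL.RRed.WideTree
open Cfsg.Agent.Omega.NOThreeL.RRed.WLeft
open Cfsg.Agent.MinSimple.VModule (oddGen oddGen_def)
open scoped Pointwise

universe u

/-- multiplicative maps of a finite field commute -/
theorem comm_of_mul {F : Type} [Field F] [Finite F] {f g : F → F} (hf : ∀ x y, f (x * y) = f x * f y)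
    (hf0 : f 0 = 0) (hf1 : ∀ x, x ≠ 0 → f x ≠ 0) (hg : ∀ x y, g (x * y) = g x * g y) (hg0 : g 0 = 0)
    (hg1 : ∀ x, x ≠ 0 → g x ≠ 0) (x : F) : f (g x) = g (f x) := by
  by_cases hx : x = 0
  · rw [hx, hg0, hf0, hg0]
  have e1 : ∀ {h : F → F}, (∀ x y, h (x * y) = h x * h y) → (∀ x, x ≠ 0 → h x ≠ 0) → h 1 = 1 := by
    intro h hh h1
    have h2 := hh 1 1
    rw [mul_one] at h2
    exact (mul_eq_left₀ (h1 1 one_ne_zero)).1 h2.symm
  have hpow : ∀ {h : F → F}, (∀ x y, h (x * y) = h x * h y) → (∀ x, x ≠ 0 → h x ≠ 0) →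
      ∀ (y : F) (m : ℕ), h (y ^ m) = h y ^ m := by
    intro h hh h1 y m
    induction m with
    | zero => rw [pow_zero, pow_zero, e1 hh h1]
    | succ m ih => rw [pow_succ, hh, ih, pow_succ]
  obtain ⟨ω, hω⟩ := IsCyclic.exists_generator (α := Fˣ)
  have key : ∀ y : F, y ≠ 0 → ∃ m : ℕ, y = (ω : F) ^ m := by
    intro y hy
    obtain ⟨m, hm⟩ := (mem_powers_iff_mem_zpowers (x := ω) (y := Units.mk0 y hy)).2 (hω (Units.mk0 y hy))
    refine ⟨m, ?_⟩
    have := congrArg Units.val hm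
    simpa using this.symm
  have hω0 : (ω : F) ≠ 0 := ω.ne_zero
  obtain ⟨k, rfl⟩ := key x hx
  obtain ⟨m, hm⟩ := key (f ω) (hf1 _ hω0)
  obtain ⟨p, hp⟩ := key (g ω) (hg1 _ hω0)
  rw [hpow hg hg1, hpow hf hf1, hpow hf hf1, hpow hg hg1, hm, hp, hpow hf hf1, hpow hg hg1, hm, hp]
  rw [← pow_mul, ← pow_mul, ← pow_mul, ← pow_mul]
  congr 1
  ring

variable {G : Type u} [Group G]

section rt

variable {F : Type} [Field F] [CharP F 2] {S P V W l : Subgroup G}

/-- `A` acts on `V` as the full root group -/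
structure Rt (n : NatS F S P V W l) (A : Subgroup G) : Prop where
  root : ∀ a ∈ A, ∃ b : F, ∀ v ∈ V, n.e (a * v * a⁻¹) = ap (up b) (n.e v)
  full : ∀ b : F, ∃ a ∈ A, ∀ v ∈ V, n.e (a * v * a⁻¹) = ap (up b) (n.e v)

variable {n : NatS F S P V W l} {A A' : Subgroup G}

theorem ap_up (b : F) (x : Fin 2 → F) : ap (up b) x = ![x 0 + b * x 1, x 1] := by
  apply ext2
  · rw [NO3S.ThmB.ap_up_0]; rfl
  · rw [NO3S.ThmB.ap_up_1]; rfl

theorem Rt.cent (hA : Rt n A) (hn : A ≤ normalizer (V : Set G)) : V ⊓ centralizer (A : Set G) = l := by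
  ext v
  rw [n.lin]
  constructor
  · rintro ⟨hv, hc⟩
    refine ⟨hv, ?_⟩
    obtain ⟨a, ha, hact⟩ := hA.full 1
    have h1 : a * v * a⁻¹ = v := by
      rw [mem_centralizer_iff.1 hc a ha, mul_inv_cancel_right]
    have h2 := congrFun (hact v hv) 0
    rw [h1, ap_up] at h2
    change n.e v 0 = n.e v 0 + 1 * n.e v 1 at h2
    rw [one_mul] at h2
    exact left_eq_add.1 h2
  · rintro ⟨hv, h0⟩
    refine ⟨hv, mem_centralizer_iff.2 fun a ha => ?_⟩
    obtain ⟨b, hact⟩ := hA.root a ha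
    have h1 : a * v * a⁻¹ = v := by
      refine n.e_inj ((mem_normalizer_iff.1 (hn ha) v).1 hv) hv ?_
      rw [hact v hv, ap_up, h0, mul_zero, add_zero]
      exact ext2 rfl h0.symm
    calc a * v = (a * v * a⁻¹) * a := by group
      _ = v * a := by rw [h1]

/-- the coordinate map of `r` on `l` -/
noncomputable def al (n : NatS F S P V W l) (r : G) (t : F) : F := n.e (r * (n.surj ![t, 0]).choose * r⁻¹) 0

theorem al_eq (r : G) {v : G} (hv : v ∈ l) : al n r (n.e v 0) = n.e (r * v * r⁻¹) 0 := by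
  have h := (n.surj ![n.e v 0, 0]).choose_spec
  have e : (n.surj ![n.e v 0, 0]).choose = v := n.e_inj h.1 (n.lV hv) (by rw [h.2, ← n.e_l hv])
  rw [al, e]

/-- **semilinearity** -/
theorem Rt.mul (hA : Rt n A) (hA' : Rt n A') {r : G} (hrV : r ∈ normalizer (V : Set G))
    (hr : ∀ a ∈ A, r * a * r⁻¹ ∈ A') (hAn : A ≤ normalizer (V : Set G)) (hl : ∀ v ∈ l, r * v * r⁻¹ ∈ l) (s t : F) :
    al n r (s * t) * al n r 1 = al n r s * al n r t := by
  -- `β x`
  choose sec hsV hse using n.surj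
  have hconj : ∀ {v : G}, v ∈ V → r * v * r⁻¹ ∈ V := fun hv => (mem_normalizer_iff.1 hrV _).1 hv
  have hmul : ∀ v ∈ V, ∀ w ∈ V, n.e (r * (v * w) * r⁻¹) = n.e (r * v * r⁻¹) + n.e (r * w * r⁻¹) := by
    intro v hv w hw
    rw [show r * (v * w) * r⁻¹ = (r * v * r⁻¹) * (r * w * r⁻¹) by group, n.mul _ (hconj hv) _ (hconj hw)]
  set β : F → F := fun x => n.e (r * sec ![0, x] * r⁻¹) 1 with hβ
  -- `α (c x) = c' β x`
  have key : ∀ c : F, ∃ c' : F, ∀ x : F, al n r (c * x) = c' * β x := by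
    intro c
    obtain ⟨a, ha, hact⟩ := hA.full c
    obtain ⟨c', hc'⟩ := hA'.root _ (hr a ha)
    refine ⟨c', fun x => ?_⟩
    set w := sec ![0, x] with hw
    have hwV : w ∈ V := hsV _
    have hwe : n.e w = ![0, x] := hse _
    have haw : a * w * a⁻¹ ∈ V := (mem_normalizer_iff.1 (hAn ha) _).1 hwV
    -- `u = [a, w] ∈ l`
    set u := a * w * a⁻¹ * w⁻¹ with hu
    have huV : u ∈ V := mul_mem haw (inv_mem hwV)
    have hue : n.e u = ![c * x, 0] := by
      rw [hu, n.mul _ haw _ (inv_mem hwV), n.e_inv hwV, hact w hwV, ap_up, hwe]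
      apply ext2 <;> simp
    have hul : u ∈ l := (n.lin u).2 ⟨huV, by rw [hue]; rfl⟩
    have h1 : al n r (c * x) = n.e (r * u * r⁻¹) 0 := by
      rw [← al_eq r hul, hue]
      rfl
    rw [h1]
    have e1 : r * u * r⁻¹ = (r * a * r⁻¹) * (r * w * r⁻¹) * (r * a * r⁻¹)⁻¹ * (r * w * r⁻¹)⁻¹ := by
      rw [hu]; group
    have h2 : (r * a * r⁻¹) * (r * w * r⁻¹) * (r * a * r⁻¹)⁻¹ ∈ V := by
      have e2 : (r * a * r⁻¹) * (r * w * r⁻¹) * (r * a * r⁻¹)⁻¹ = r * (a * w * a⁻¹) * r⁻¹ := by group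
      rw [e2]
      exact hconj haw
    rw [e1, n.mul _ h2 _ (inv_mem (hconj hwV)), n.e_inv (hconj hwV), hc' _ (hconj hwV), ap_up]
    change n.e (r * w * r⁻¹) 0 + c' * n.e (r * w * r⁻¹) 1 + - n.e (r * w * r⁻¹) 0 = c' * β x
    ring
  have hβ1 : β 1 ≠ 0 := by
    intro h0
    have h1 : r * sec ![0, 1] * r⁻¹ ∈ l := (n.lin _).2 ⟨hconj (hsV _), h0⟩
    -- `r` maps `l` onto `l`
    obtain ⟨c', hc'⟩ := key 1
    have h2 := hc' 1
    rw [h0, mul_zero, mul_one] at h2
    have h3 := (n.exists_l (1 : F)).choose_spec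
    have h4 := al_eq (n := n) r h3.1
    rw [h3.2] at h4
    change al n r 1 = _ at h4
    rw [h2] at h4
    have h5 : n.e (r * (n.exists_l (1 : F)).choose * r⁻¹) = 0 := by
      rw [n.e_l (hl _ h3.1), ← h4]
      exact ext2 rfl rfl
    have h6 := (n.ker _ (hconj (n.lV h3.1))).1 h5
    have h7 : (n.exists_l (1 : F)).choose = 1 := conj_eq_one_iff.1 h6
    have h8 := h3.2
    rw [h7, n.e_one] at h8
    exact one_ne_zero (congrFun h8 0).symm
  obtain ⟨c1, hc1⟩ := key 1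
  obtain ⟨cs, hcs⟩ := key s
  have a1 := hcs t
  have a2 := hcs 1
  have a3 := hc1 t
  have a4 := hc1 1
  rw [mul_one] at a2
  rw [one_mul] at a3 a4
  rw [a1, a2, a3, a4]
  ring

theorem al_ne {r : G} (hrV : r ∈ normalizer (V : Set G)) (hl : ∀ v ∈ l, r * v * r⁻¹ ∈ l) {x : F} (hx : x ≠ 0) :
    al n r x ≠ 0 := by
  intro h0
  obtain ⟨v, hv, hve⟩ := n.exists_l x
  have h1 := al_eq (n := n) r hv
  rw [hve] at h1
  change al n r x = _ at h1
  rw [h0] at h1
  have h2 : n.e (r * v * r⁻¹) = 0 := by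
    rw [n.e_l (hl _ hv), ← h1]
    exact ext2 rfl rfl
  have h3 := (n.ker _ ((mem_normalizer_iff.1 hrV _).1 (n.lV hv))).1 h2
  have h4 : v = 1 := conj_eq_one_iff.1 h3
  rw [h4, n.e_one] at hve
  exact hx (congrFun hve 0).symm

theorem al_zero (r : G) : al n r 0 = 0 := by
  have h1 := al_eq (n := n) r (one_mem l)
  have h2 : n.e 1 0 = 0 := congrFun n.e_one 0
  rw [h2] at h1
  rw [h1, mul_one, mul_inv_cancel, h2]

/-- **a group of semilinear maps of `l` which fixes a vector of `l#` is commutative on `l`** -/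
theorem Rt.comm [Finite F] (hA : Rt n A) (hAn : A ≤ normalizer (V : Set G)) {R : Subgroup G}
    (hRV : R ≤ normalizer (V : Set G)) (hRl : ∀ r ∈ R, ∀ v ∈ l, r * v * r⁻¹ ∈ l)
    (hRA : ∀ r ∈ R, Rt n (MulAut.conj r • A)) {z : G} (hz : z ∈ l) (hz1 : z ≠ 1)
    (hzR : R ≤ centralizer ({z} : Set G)) :
    ∀ r ∈ R, ∀ t ∈ R, ∀ v ∈ l, r * (t * v * t⁻¹) * r⁻¹ = t * (r * v * r⁻¹) * t⁻¹ := by
  set z0 : F := n.e z 0 with hz0
  have hz0' : z0 ≠ 0 := by
    intro h0
    apply hz1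
    refine (n.ker z (n.lV hz)).1 ?_
    rw [n.e_l hz, ← hz0, h0]
    exact ext2 rfl rfl
  have hne : ∀ r ∈ R, al n r 1 ≠ 0 := fun r hr => al_ne (hRV hr) (hRl r hr) one_ne_zero
  have hm : ∀ r ∈ R, ∀ x y, al n r (x * y) * al n r 1 = al n r x * al n r y := fun r hr x y =>
    hA.mul (hRA r hr) (hRV hr) (fun a ha => ⟨a, ha, rfl⟩) hAn (hRl r hr) x y
  have hfz : ∀ r ∈ R, al n r z0 = z0 := by
    intro r hr
    rw [hz0, al_eq r hz]
    have h1 := mem_centralizer_singleton_iff.1 (hzR hr)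
    rw [h1, mul_inv_cancel_right]
  let σ : G → F → F := fun r x => al n r x / al n r 1
  have hσm : ∀ r ∈ R, ∀ x y, σ r (x * y) = σ r x * σ r y := by
    intro r hr x y
    have h1 := hm r hr x y
    have h2 := hne r hr
    change al n r (x * y) / al n r 1 = al n r x / al n r 1 * (al n r y / al n r 1)
    rw [div_mul_div_comm, ← h1]
    field_simp
  have hσ0 : ∀ r ∈ R, σ r 0 = 0 := by
    intro r _
    change al n r 0 / al n r 1 = 0
    rw [al_zero, zero_div]
  have hσ1 : ∀ r ∈ R, ∀ x, x ≠ 0 → σ r x ≠ 0 := fun r hr x hx =>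
    div_ne_zero (al_ne (hRV hr) (hRl r hr) hx) (hne r hr)
  have hal : ∀ r ∈ R, ∀ x, al n r (z0 * x) = z0 * σ r x := by
    intro r hr x
    have h1 := hm r hr z0 x
    rw [hfz r hr] at h1
    have h2 := hne r hr
    change al n r (z0 * x) = z0 * (al n r x / al n r 1)
    rw [← mul_div_assoc, ← h1, mul_div_cancel_right₀ _ h2]
  intro r hr t ht v hv
  have htv := hRl t ht v hv
  have hrv := hRl r hr v hv
  set y : F := n.e v 0 / z0 with hy
  have hvy : n.e v 0 = z0 * y := by rw [hy]; field_simp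
  have e1 : n.e (r * (t * v * t⁻¹) * r⁻¹) 0 = z0 * σ r (σ t y) := by
    rw [← al_eq r htv, ← al_eq t hv, hvy, hal t ht, hal r hr]
  have e2 : n.e (t * (r * v * r⁻¹) * t⁻¹) 0 = z0 * σ t (σ r y) := by
    rw [← al_eq t hrv, ← al_eq r hv, hvy, hal r hr, hal t ht]
  have h1 := hRl r hr _ htv
  have h2 := hRl t ht _ hrv
  refine n.e_inj (n.lV h1) (n.lV h2) ?_
  rw [n.e_l h1, n.e_l h2, e1, e2,
    comm_of_mul (hσm r hr) (hσ0 r hr) (hσ1 r hr) (hσm t ht) (hσ0 t ht) (hσ1 t ht)]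

end rt

section wide

variable [Finite G] {S : Sylow 2 G} {F : Type} [Field F] [CharP F 2] {P A W W' l : Subgroup G}

/-- **a minimal exact offender of `V*` in `S` which moves `W` acts on it as the full root group** -/
theorem rt_of (hW : Wide S) (N : Nat1 F (S : Subgroup G) P W l) (hP : IsParS (S : Subgroup G) P)
    (n : NatS F (S : Subgroup G) P W W' l) (hn : n.e = fun g => N.M.e g 0) (hA : A ≤ (S : Subgroup G))
    (hm : Mx (Wd (S : Subgroup G)) A) (hne : ¬ A ≤ centralizer (W : Set G)) : Rt n A := by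
  obtain ⟨P₁, A₁, hg⟩ := FourTree.exists_gOne_rr hW.toRB hW.rr
  have hne' : ¬ A ≤ centralizer (zl (S : Subgroup G) P : Set G) := fun h => hne (h.trans (centralizer_le N.W_le))
  obtain ⟨-, -, hoff, -, -⟩ := exact_split hW.toRB.ctx.char2 hP (Merge.le_MZ hP) hg.no hg.comm hA hm.toElemM
    hm.exact hne'
  obtain ⟨I, hI, hI'⟩ := N.M.offM A hA hoff
  have hall : ∀ b : Fin 1 → F, (fun i => up (b i)) = fun _ => up (b 0) := by
    intro b
    funext i
    rw [Subsingleton.elim i 0]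
  by_cases h0 : (0 : Fin 1) ∈ I
  · refine ⟨fun a ha => ?_, fun b => ?_⟩
    · obtain ⟨b, -, hact⟩ := hI a ha
      refine ⟨b 0, fun v hv => ?_⟩
      rw [hn]
      exact hact.1 v (N.W_le hv) 0
    · obtain ⟨a, ha, hact⟩ := hI' (fun _ => b) fun i hi => absurd (by rw [Subsingleton.elim i 0]; exact h0) hi
      refine ⟨a, ha, fun v hv => ?_⟩
      rw [hn]
      exact hact.1 v (N.W_le hv) 0
  · exfalso
    apply hne'
    intro a ha
    obtain ⟨b, hb, hact⟩ := hI a ha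
    have hb0 : b = 0 := by
      funext i
      rw [Subsingleton.elim i 0]
      exact hb 0 h0
    have h1 : ActsSL N.M.e (zl (S : Subgroup G) P) (cv (S : Subgroup G) P) a 1 := by
      have h2 : (fun i => up (b i)) = (1 : Fin 1 → Matrix.SpecialLinearGroup (Fin 2) F) := by
        funext i
        rw [hb0]
        exact up_zero
      rwa [h2] at hact
    exact mem_centralizer_iff.2 fun v hv => (N.nb.comm_of_one (hP.le (hA ha)) h1 hv).symm

end wide

end Cfsg.Agent.Omega.NOThreeL.RRed.WLF
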