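import Cfsg.Agent.Omega.NOThreeL.RRed.WLF.NatFOf

/-!
# NO-3L, box R, row 8 of `WideTree`: `Spl S W` and nonlocality with fields (helper916; text helper640 #24700 (B))

* `spl_of` : 692's `Spl S W`;
* **`nonLoc_of`** : `⟨C_G(Z_0), C_G(Z_1)⟩` is nonlocal, from `C_G(Z) ≤ N(l i)`;
* **`lfr_of`** : `KL.TwoZ.Line.LFr S W (ZZ S W) l`.
-/

set_option autoImplicit false
set_option linter.unusedSectionVars false

namespace Cfsg.Agent.Omega.NOThreeL.RRed.WLF

open Subgroup Cfsg Cfsg.Agent.ZN Cfsg.Agent.Omega.MinPar Cfsg.Agent.Omega.Frame Cfsg.Agent.Omega.FrameNOFF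
open Cfsg.Agent.Omega.FrameFF
open Cfsg.Agent.Omega.NOThreeL.Merge (MZ)
open Cfsg.Agent.Omega.NOThreeL.RTree (RB)
open Cfsg.Agent.Omega.NOThreeL.RRed.InstZ (ZZ Spl)
open Cfsg.Agent.Omega.NOThreeL.RRed.WideTree
open Cfsg.Agent.Omega.NOThreeL.RRed.WLeft
open Cfsg.Agent.Omega.NOThreeL.Pair (conj_eq_of_mem)
open Cfsg.Agent.MinSimple.VModule (oddGen oddGen_def)
open scoped Pointwise

universe u

variable {G : Type u} [Group G] [Finite G] {S : Sylow 2 G} {W l : Fin 2 → Subgroup G}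
  (hW : Wide S) (C : CM (S : Subgroup G) (fun i : ULift.{u} (Fin 2) => W i.down))
  (s : Src (S : Subgroup G) W l)
include hW C s

/-- **`Spl S W`** -/
theorem spl_of (hm : MvAct (S : Subgroup G)) : Spl S W := by
  refine spl hW.toRB C (fun i => ?_) fun i j hij => ?_
  · obtain ⟨F, iF, iF', iF2, P, N, n, hP, -, -⟩ := exists_nat hW C s hm i
    exact ⟨P, hP.1, N.W_le⟩
  · obtain ⟨F, iF, iF', iF2, P, N, n, hP, hc, -⟩ := exists_nat hW C s hm i
    have hj : j = i + 1 := OM.KTwo.eq_add_one hij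
    obtain ⟨z, hz, hz1⟩ := exists_z hW.toRB C i
    intro v hv
    by_cases hv1 : v = 1
    · rw [hv1]; exact one_mem _
    obtain ⟨h, hh, e⟩ := n.trans hv hv1 hz.1 hz1 (MinSimple.VModule.zc_le_centralizer _ hz.2)
    have hhP : h⁻¹ ∈ centralizer (ZZ (S : Subgroup G) W j : Set G) := by
      rw [hj]
      exact inv_mem (hc (n.oddGen_le hh))
    have h1 : MulAut.conj h⁻¹ • ZZ (S : Subgroup G) W i ≤ NoFF.Basic.V (ZZ (S : Subgroup G) W i)
        (centralizer (ZZ (S : Subgroup G) W j : Set G)) := NoFF.Basic.Z_le_V hhP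
    apply h1
    refine ⟨z, hz, ?_⟩
    change h⁻¹ * z * h⁻¹⁻¹ = v
    rw [← e]; group

/-- **nonlocality** -/
theorem nonLoc_of (hm : MvAct (S : Subgroup G))
    (hcl : ∀ c ∈ centralizer (zc (S : Subgroup G) : Set G), ∀ i, c ∈ normalizer (l i : Set G)) :
    NonLoc (centralizer (ZZ (S : Subgroup G) W 0 : Set G)) (centralizer (ZZ (S : Subgroup G) W 1 : Set G)) := by
  have h := hW.toRB
  have hlW : ∀ i, l i ≤ W i := fun i => by
    obtain ⟨F, iF, iF', iF2, P, N, n, -, -, -⟩ := exists_nat hW C s hm i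
    exact n.lV
  have hZl : ∀ i, ZZ (S : Subgroup G) W i ≤ l i := fun i => by
    obtain ⟨F, iF, iF', iF2, P, N, n, -, -, -⟩ := exists_nat hW C s hm i
    exact fun z hz => n.fixed_le hz.1 (MinSimple.VModule.zc_le_centralizer _ hz.2)
  have hWab : ∀ i j, W i ≤ centralizer (W j : Set G) := fun i j x hx => mem_centralizer_iff.2 fun y hy =>
    (mem_centralizer_iff.1 (Star.zl_comm h.ctx.char2 h.data.noff (cm_le C i hx)) y (cm_le C j hy))
  have hlc : ∀ i j, l i ≤ centralizer (l j : Set G) := fun i j =>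
    (hlW i).trans ((hWab i j).trans (centralizer_le (hlW j)))
  set G₀ : Subgroup G := centralizer (l 0 : Set G) ⊔ centralizer (l 1 : Set G) with hG₀
  have hcG : ∀ i, centralizer (l i : Set G) ≤ G₀ := by
    intro i
    rcases Fin.exists_fin_two.1 ⟨i, rfl⟩ with e | e
    · rw [e]; exact le_sup_left
    · rw [e]; exact le_sup_right
  -- what normalises both lines normalises `G₀`
  have hnG : ∀ g : G, (∀ i, g ∈ normalizer (l i : Set G)) → g ∈ normalizer (G₀ : Set G) := by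
    intro g hg
    refine mem_nor ?_
    rw [hG₀, Subgroup.smul_sup, NoFF.ThmJFam.conj_cent, NoFF.ThmJFam.conj_cent, conj_eq_of_mem (hg 0),
      conj_eq_of_mem (hg 1)]
  have hSl : ∀ i, (S : Subgroup G) ≤ normalizer (l i : Set G) := fun i t ht =>
    hcl t (MinSimple.VModule.le_centralizer_zc _ ht) i
  have hSG : (S : Subgroup G) ≤ normalizer (G₀ : Set G) := fun t ht => hnG t fun i => hSl i ht
  have hCG : centralizer (zc (S : Subgroup G) : Set G) ≤ normalizer (G₀ : Set G) := fun c hc => hnG c (hcl c hc)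
  -- `P*(S)` normalises `G₀`
  have hPG : ∀ R, IsParS (S : Subgroup G) R → R ≤ normalizer (G₀ : Set G) := by
    intro R hR
    by_cases hA : Act (S : Subgroup G) R
    · obtain ⟨i, -, hodd, -⟩ := exists_cls C hA
      conv_lhs => rw [← NoFF.LinesPlug.oddGen_sup hR.le (MinSimple.Basic.not_dvd_relIndex S hR.le)]
      refine sup_le ?_ hSG
      exact (hodd.trans ((centralizer_le (hlW (i + 1))).trans (hcG (i + 1)))).trans le_normalizer
    · exact fun r hr => hnG r fun i => norm_l hW C s hm hR hA i hr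
  -- `O₂(G₀) = 1`
  have hE : o2 G₀ = ⊥ := by
    refine Merge.nonLoc_MZ h.ctx h.full _ (MinSimple.VModule.o2_isPGroup _) (sSup_le fun R hR => ?_) ?_
    · exact (hPG R hR).trans (fun g hg => KL.TwoZ.norm_o2_of hg)
    · exact hCG.trans (fun g hg => KL.TwoZ.norm_o2_of hg)
  intro U hU h0 h1
  have hUS : U ≤ (S : Subgroup G) := le_of_le_normalizer S hU ((InstZ.Spl.S_le_cent W 0).trans h0)
  have hGU : G₀ ≤ normalizer (U : Set G) :=
    sup_le ((centralizer_le (hZl 0)).trans h0) ((centralizer_le (hZl 1)).trans h1)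
  -- `[U, G₀] ≤ U ∩ G₀ = 1`
  have hUG : U ⊓ G₀ = ⊥ := by
    rw [eq_bot_iff, ← hE]
    refine MinSimple.VModule.le_o2 inf_le_right (hU.to_le inf_le_left) ?_
    intro g hg
    rw [mem_normalizer_iff]
    intro x
    rw [mem_inf, mem_inf]
    exact and_congr (mem_normalizer_iff.1 (hGU hg) x) (mem_normalizer_iff.1 (le_normalizer hg) x)
  have hcen : ∀ y ∈ U, ∀ g ∈ G₀, y * g = g * y := by
    intro y hy g hg
    have h2 : y * g * y⁻¹ * g⁻¹ ∈ U ⊓ G₀ := by
      refine mem_inf.2 ⟨?_, ?_⟩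
      · have h3 := (mem_normalizer_iff.1 (hGU hg) _).1 (inv_mem hy)
        have e : y * g * y⁻¹ * g⁻¹ = y * (g * y⁻¹ * g⁻¹) := by group
        rw [e]
        exact mul_mem hy h3
      · exact mul_mem ((mem_normalizer_iff.1 (hSG (hUS hy)) g).1 hg) (inv_mem hg)
    rw [hUG, mem_bot] at h2
    calc y * g = (y * g * y⁻¹ * g⁻¹) * (g * y) := by group
      _ = g * y := by rw [h2, one_mul]
  have hlG : ∀ i, l i ≤ G₀ := fun i => (hlc i 0).trans (hcG 0)
  have hUG' : U ≤ G₀ := fun y hy => hcG 0 (mem_centralizer_iff.2 fun x hx => (hcen y hy x (hlG 0 hx)).symm)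
  rwa [inf_eq_left.2 hUG'] at hUG

/-- **853's frame `LFr`** -/
theorem lfr_of (hm : MvAct (S : Subgroup G))
    (hcl : ∀ c ∈ centralizer (zc (S : Subgroup G) : Set G), ∀ i, c ∈ normalizer (l i : Set G)) :
    KL.TwoZ.Line.LFr S W (ZZ (S : Subgroup G) W) l :=
  (natF hW C s hm).lfr hW.toRB (spl_of hW C s hm) (InstL.zj_of_perm hcl) (nonLoc_of hW C s hm hcl)

end Cfsg.Agent.Omega.NOThreeL.RRed.WLF
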