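import Cfsg.Agent.Omega.NOThreeL.RRed.WLeftBase
import Cfsg.Agent.Omega.NOThreeL.RRed.NatSOf
import Cfsg.Agent.Omega.NOThreeL.RRed.ClassMx
import Cfsg.Agent.Omega.NOThreeL.RRed.NS.Cov

/-!
# NO-3L, box R, row 8 of `WideTree` (two natural blocks, fields): one active `P` per block (helper916)

* `Src S W l` : the blocks and lines of every active `P` are among the `(W b, l b)`;
* `Src.nat1` : an active `P` which moves `Z_i` has exactly one block, `W i`, with line `l i`;
* `Src.natS` : `NatS F S P (W i) (W (i+1)) (l i)`.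
-/

set_option autoImplicit false
set_option linter.unusedSectionVars false

namespace Cfsg.Agent.Omega.NOThreeL.RRed.WLF

open Subgroup Cfsg Cfsg.Agent.ZN Cfsg.Agent.Omega.MinPar Cfsg.Agent.Omega.Frame Cfsg.Agent.Omega.FrameNOFF
open Cfsg.Agent.Omega.FrameFF
open Cfsg.Agent.Omega.Node.NO3L Cfsg.Agent.Omega.NOThreeL.Basic
open Cfsg.Agent.Omega.NOThreeL.Merge (MZ)
open Cfsg.Agent.Omega.NOThreeL.RTree (RB)
open Cfsg.Agent.Omega.FFThm (NatKM NatK ActsSL OffM ElemM NoOverM ConclM)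
open Cfsg.Agent.Omega.NO3S.ThmB (Nb sg)
open Cfsg.Agent.Omega.NO3S.KeyRad (blk blk_le e_blk exists_blk_e)
open Cfsg.Agent.Omega.NOThreeL.RRed.NS (DD YY mem_YY)
open Cfsg.Agent.Omega.NOThreeL.RRed.InstZ (ZZ Spl)
open Cfsg.Agent.Omega.NOThreeL.RRed.WideTree
open Cfsg.Agent.Omega.NOThreeL.RRed.WLeft
open Cfsg.Agent.MinSimple.VModule (oddGen oddGen_def)
open scoped Pointwise

universe u

variable {G : Type u} [Group G]

/-- **every active `P` is natural, its blocks and lines are in the list** -/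
structure Src (S : Subgroup G) (W l : Fin 2 → Subgroup G) : Prop where
  act : ∀ P, Act S P → ∃ (F : Type) (_ : Field F) (_ : Finite F) (_ : CharP F 2) (k : ℕ) (_ : 0 < k)
    (M : NatKM F S P (zl S P) (cv S P) k) (h : Nb M), (∀ j, DD M j = ⊥) ∧ ∀ j, ∃ b, W b = blk M j ∧ l b = YY h j

/-- one natural block -/
structure Nat1 (F : Type) [Field F] (S P W l : Subgroup G) where
  M : NatKM F S P (zl S P) (cv S P) 1
  nb : Nb M
  dd : DD M 0 = ⊥
  hW : W = blk M 0
  hl : l = YY nb 0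

section fin

variable [Finite G] {S : Sylow 2 G} {W l : Fin 2 → Subgroup G}

/-- the class of an active `P` -/
theorem exists_cls (C : CM (S : Subgroup G) (fun i : ULift.{u} (Fin 2) => W i.down)) {P : Subgroup G}
    (hP : Act (S : Subgroup G) P) : ∃ i : Fin 2, ¬ P ≤ centralizer (ZZ (S : Subgroup G) W i : Set G) ∧
      oddGen P ≤ centralizer (W (i + 1) : Set G) ∧
        P ≤ centralizer (ZZ (S : Subgroup G) W (i + 1) : Set G) := by
  obtain ⟨k, hk, hk'⟩ := C.one P hP
  have hodd : oddGen P ≤ centralizer (W (k.down + 1) : Set G) := by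
    rw [oddGen_def, closure_le]
    rintro g ⟨hg, ho⟩
    exact hk' ⟨k.down + 1⟩ (fun e => OM.KTwo.ne_add_one k.down (congrArg ULift.down e).symm) g hg ho
  refine ⟨k.down, hk, hodd, ?_⟩
  conv_lhs => rw [← NoFF.LinesPlug.oddGen_sup hP.1.le (MinSimple.Basic.not_dvd_relIndex S hP.1.le)]
  exact sup_le (hodd.trans (centralizer_le inf_le_left)) (InstZ.Spl.S_le_cent W _)

/-- **an active `P` of class `i` has exactly one block, `W i`** -/
theorem Src.nat1 (s : Src (S : Subgroup G) W l) {P : Subgroup G} (hP : Act (S : Subgroup G) P) {i : Fin 2}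
    (hi : oddGen P ≤ centralizer (W (i + 1) : Set G)) :
    ∃ (F : Type) (_ : Field F) (_ : Finite F) (_ : CharP F 2), Nonempty (Nat1 F (S : Subgroup G) P (W i) (l i)) := by
  obtain ⟨F, iF, iF', iF2, k, hk, M, hM, hD, hb⟩ := s.act P hP
  have key : ∀ j : Fin k, W i = blk M j ∧ l i = YY hM j := by
    intro j
    obtain ⟨b, hb1, hb2⟩ := hb j
    have hbi : b = i := by
      by_contra hne
      have hb' : b = i + 1 := OM.KTwo.eq_add_one (Ne.symm hne)
      obtain ⟨w, hw, hwe⟩ := exists_blk_e hM j ![1, 0]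
      have hwW : w ∈ W (i + 1) := by rw [← hb', hb1]; exact hw
      have h1 : w ∈ cv (S : Subgroup G) P := ⟨blk_le hM j hw, centralizer_le hi (le_centralizer_iff.1 le_rfl hwW)⟩
      have h2 : w ∈ DD M j := ⟨hw, h1⟩
      rw [hD j, mem_bot] at h2
      rw [h2, Nb.e_one (M := M)] at hwe
      exact one_ne_zero (congrFun hwe 0).symm
    rw [← hbi]
    exact ⟨hb1, hb2⟩
  have hk1 : k = 1 := by
    by_contra hne
    have h2 : 1 < k := by omega
    have h01 : (⟨1, h2⟩ : Fin k) ≠ ⟨0, hk⟩ := by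
      intro h
      exact absurd (congrArg Fin.val h) (by norm_num)
    obtain ⟨w, hw, hwe⟩ := exists_blk_e hM ⟨0, hk⟩ ![1, 0]
    have hw' : w ∈ blk M ⟨1, h2⟩ := by rw [← (key ⟨1, h2⟩).1, (key ⟨0, hk⟩).1]; exact hw
    have h3 := e_blk hM h01.symm hw'
    rw [h3] at hwe
    exact one_ne_zero (congrFun hwe 0).symm
  subst hk1
  exact ⟨F, iF, iF', iF2, ⟨{ M := M, nb := hM, dd := hD 0, hW := (key 0).1, hl := (key 0).2 }⟩⟩

end fin

namespace Nat1

variable {F : Type} [Field F] [CharP F 2] {S P W l : Subgroup G} (N : Nat1 F S P W l)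
include N

theorem W_le : W ≤ zl S P := by
  rw [N.hW]
  exact blk_le N.nb 0

theorem mem_l {v : G} : v ∈ l ↔ v ∈ W ∧ N.M.e v 0 1 = 0 := by
  obtain ⟨M, nb, dd, hW, hl⟩ := N
  subst hW hl
  rfl

theorem inf_cv : W ⊓ cv S P = ⊥ := by
  have h := N.dd
  rw [DD, ← N.hW] at h
  exact h

theorem le_sup : zl S P ≤ W ⊔ cv S P := by
  intro u hu
  obtain ⟨w, hw, hwe⟩ := exists_blk_e N.nb 0 (N.M.e u 0)
  have hwV := blk_le N.nb 0 hw
  have h1 : u * w⁻¹ ∈ cv S P := by
    rw [N.nb.mem_D hu hwV]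
    funext i
    rw [Subsingleton.elim i 0, hwe]
  have e : u = w * (u * w⁻¹) := by
    rw [N.nb.cm hwV (mul_mem hu (inv_mem hwV)), inv_mul_cancel_right]
  rw [e]
  exact mul_mem_sup (by rw [N.hW]; exact hw) h1

/-- a `P`-fixed vector of `W` is trivial -/
theorem eq_one {z : G} (hz : z ∈ W) (hc : P ≤ centralizer ({z} : Set G)) : z = 1 := by
  have h1 : z ∈ W ⊓ cv S P := by
    refine ⟨hz, N.W_le hz, mem_centralizer_iff.2 fun g hg => ?_⟩
    have h2 : g ∈ P := by
      have h3 : oddGen P ≤ P := by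
        rw [oddGen_def, closure_le]
        rintro x ⟨hx, -⟩
        exact hx
      exact h3 hg
    exact mem_centralizer_singleton_iff.1 (hc h2)
  rwa [N.inf_cv, mem_bot] at h1

end Nat1

/-- **`NatS` of the block `W i`** -/
theorem Nat1.natS [Finite G] {F : Type} [Field F] [CharP F 2] {S : Sylow 2 G} {P W W' l : Subgroup G}
    (N : Nat1 F (S : Subgroup G) P W l) (hSP : (S : Subgroup G) ≤ P) (hn : P ≤ normalizer (W : Set G))
    (ho : oddGen P ≤ centralizer (W' : Set G)) :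
    ∃ n : NatS F (S : Subgroup G) P W W' l, n.e = fun g => N.M.e g 0 := by
  have hDV : cv (S : Subgroup G) P ≤ normalizer (W : Set G) := by
    refine le_trans (fun d hd => ?_) (centralizer_le_normalizer _)
    exact mem_centralizer_iff.2 fun w hw => N.nb.cm (N.W_le hw) (N.nb.DV hd)
  have e : ∀ v, v ∈ l ↔ v ∈ NatS.ln N.M.toNatK W N.W_le := fun v => N.mem_l
  have e' : l = NatS.ln N.M.toNatK W N.W_le := Subgroup.ext e
  let n := NatS.ofNatK (W := W') hSP S.isPGroup' (MinSimple.Basic.not_dvd_relIndex S hSP) N.M.toNatK N.W_le N.nb.DV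
    N.le_sup N.inf_cv hDV N.nb.DP' hn (fun g hg hgo => ho (by rw [oddGen_def]; exact subset_closure ⟨hg, hgo⟩))
  refine ⟨{ SP := n.SP, two := n.two, syl := n.syl, nV := n.nV, odd := n.odd, e := n.e, mul := n.mul, surj := n.surj,
            ker := n.ker, lift := n.lift, norm := n.norm, unip := n.unip, lin := fun v => ?_, Sl := ?_ }, rfl⟩
  · exact (e v).trans (n.lin v)
  · have h1 := n.Sl
    rwa [← e'] at h1

end Cfsg.Agent.Omega.NOThreeL.RRed.WLF
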